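import Cfsg.Agent.H437.SporNum
import Cfsg.Agent.Prune
set_option linter.all false
prune_inst 0x7ffffffcffbfffffffff7e7ffff9fffe3bd7dfffffdffb43ffffebffdfff93ff3bedffaf1de4f8ffcef7e6ff38b9f853fbffffffef6ffc7ffffdfff75ffbee7ff7ffbfa971d79f74effceffffbf37fffffffffffffffffffffffffffffffffffffffffffffff
open scoped Cfsg.Agent.FastGrp

-- part: H437/Small
section
set_option autoImplicit false
namespace Cfsg.Agent.H437
open Finset

theorem IsOrd.power {T : LT} {p f N m k Z W : ℕ} (h : IsOrd T p f N) (hN : N = m ^ k)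
    (hW : T.cof (p ^ f) = Z * W) (hZ : 0 < Z) (h1 : Nat.Coprime Z W) (h2 : Nat.Coprime Z ((p ^ f) ^ T.expo))
    (h3 : Nat.Coprime Z (T.dd (p ^ f))) : ∃ z, Z = z ^ k := by
  have h4 := h.eq
  rw [hW] at h4
  refine power_part (d := T.dd (p ^ f)) (W := (p ^ f) ^ T.expo * W) hZ hN ?_ (Nat.Coprime.mul_right h2 h1) h3
  rw [h4]; ring

/-- consecutive or nearly consecutive powers -/
theorem not_near {x a b l : ℕ} (hl : 2 ≤ l) (hx : 1 ≤ x) (h1 : x = a ^ l) (h2 : x + 1 = b ^ l ∨ x + 2 = b ^ l) : False := by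
  have ha : 1 ≤ a := by
    rcases Nat.eq_zero_or_pos a with h | h
    · rw [h, zero_pow (by omega)] at h1; omega
    · exact h
  have := pow_gap (b := b) hl ha (by omega)
  omega

theorem no_A2 {p f N m l : ℕ} (h : IsOrd (.A 2) p f N) (hl : l.Prime) (hN : N = m ^ l) : False := by
  have hl2 := hl.two_le
  obtain ⟨g, hg, -, hq⟩ := h.exists_root hl hN (by
    show ¬ l ∣ 2 * (2 - 1) / 2
    intro h; have := Nat.le_of_dvd (by norm_num) h; omega)
  have hq4 : 4 ≤ p ^ f := h.valid.2 rfl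
  have heq := h.eq
  have hcs := h.cop_cof
  have hcd := h.cop_dd
  generalize p ^ f = q at *
  have e1 : (LT.A 2).cof q = q ^ 2 - 1 := by simp only [LT.cof, _root_.Nat.add_one_sub_one, _root_.Finset.range_one, _root_.Finset.prod_singleton, _root_.zero_add]
  have e2 : (LT.A 2).expo = 1 := rfl
  have e3 : (LT.A 2).dd q = Nat.gcd 2 (q - 1) := rfl
  rw [e1, e2, e3, pow_one] at heq
  rw [e1] at hcs
  rcases Nat.even_or_odd' q with ⟨u, hu | hu⟩
  · have e4 : Nat.gcd 2 (q - 1) = 1 := by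
      rw [← Nat.coprime_iff_gcd_eq_one, Nat.coprime_two_left, Nat.odd_iff]; omega
    rw [e4, one_mul, hN] at heq
    obtain ⟨b, hb⟩ := pow_of_mul' hcs heq.symm
    have h5 : q ^ 2 = (((p ^ g)) ^ 2) ^ l := by rw [hq]; exact pow_right_comm _ _ _
    have h6 : 16 ≤ q ^ 2 := by nlinarith only [hq4]
    refine not_near (x := q ^ 2 - 1) hl2 (by omega) hb (.inl ?_) (b := (p ^ g) ^ 2)
    rw [← h5]; omega
  · have e4 : Nat.gcd 2 (q - 1) = 2 := by
      apply Nat.gcd_eq_left; exact ⟨u, by omega⟩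
    have e5 : q ^ 2 - 1 = 2 * (2 * u * (u + 1)) := by
      rw [hu]
      have : (2 * u + 1) ^ 2 = 2 * (2 * u * (u + 1)) + 1 := by ring
      omega
    rw [e4, e5, hN] at heq
    have h6 : q * (2 * u * (u + 1)) = m ^ l := by
      have : 2 * (q * (2 * u * (u + 1))) = 2 * m ^ l := by rw [heq]; ring
      omega
    have h7 : Nat.Coprime q (2 * u * (u + 1)) := by
      rw [e5] at hcs; exact hcs.coprime_mul_left_right
    obtain ⟨b, hb⟩ := pow_of_mul' h7 h6
    rcases Nat.even_or_odd' u with ⟨v, hv | hv⟩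
    · have h8 : Nat.Coprime (2 * u) (u + 1) := by
        apply Nat.Coprime.mul_left
        · rw [Nat.coprime_two_left, Nat.odd_iff]; omega
        · simp
      obtain ⟨c, hc⟩ := pow_of_mul h8 hb
      exact not_near (x := q - 1) hl2 (by omega) (by rw [← hc]; (clear * - hu; omega)) (.inl (by rw [← hq]; (clear * - hu; omega))) (b := p ^ g)
    · have h8 : Nat.Coprime (2 * (u + 1)) u := by
        apply Nat.Coprime.mul_left
        · rw [Nat.coprime_two_left, Nat.odd_iff]; omega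
        · simp
      obtain ⟨c, hc⟩ := pow_of_mul h8 (show 2 * (u + 1) * u = b ^ l by rw [← hb]; ring)
      exact not_near (x := q) hl2 (by omega) hq (.inl (by rw [← hc]; omega)) (b := c)

theorem pow_of_mul_pow {K x m l : ℕ} (hl : l ≠ 0) (hK : 0 < K) (h : m ^ l = K ^ l * x) : ∃ y, x = y ^ l := by
  have h1 : K ∣ m := (Nat.pow_dvd_pow_iff hl).1 ⟨x, h⟩
  obtain ⟨y, rfl⟩ := h1
  rw [mul_pow] at h
  exact ⟨y, (Nat.eq_of_mul_eq_mul_left (pow_pos hK l) h).symm⟩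

theorem cube_plus {a y : ℕ} (ha : 1 ≤ a) (h : a ^ 2 * (a + 2) = y ^ 3) : False := by
  rcases Nat.even_or_odd' a with ⟨c, hc | hc⟩
  · have h1 : y ^ 3 = 2 ^ 3 * (c ^ 2 * (c + 1)) := by rw [← h, hc]; ring
    obtain ⟨z, hz⟩ := pow_of_mul_pow (by norm_num) (by norm_num) h1
    have h2 : Nat.Coprime (c ^ 2) (c + 1) := Nat.Coprime.pow_left _ (by simp)
    obtain ⟨u, hu⟩ := pow_of_mul h2 hz
    obtain ⟨v, hv⟩ := pow_of_mul' h2 hz
    obtain ⟨w, hw⟩ := root_of_coprime (by norm_num) hu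
    exact not_near (x := c) (by norm_num) (by omega) hw (.inl hv)
  · have h2 : Nat.Coprime (a ^ 2) (a + 2) := Nat.Coprime.pow_left _ (by simp; rw [Nat.odd_iff]; omega)
    obtain ⟨u, hu⟩ := pow_of_mul h2 h
    obtain ⟨v, hv⟩ := pow_of_mul' h2 h
    obtain ⟨w, hw⟩ := root_of_coprime (by norm_num) hu
    exact not_near (x := a) (by norm_num) (by omega) hw (.inr hv)

theorem cube_minus {a y : ℕ} (ha : 1 ≤ a) (h : a * (a + 2) ^ 2 = y ^ 3) : False := by
  rcases Nat.even_or_odd' a with ⟨c, hc | hc⟩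
  · have h1 : y ^ 3 = 2 ^ 3 * (c * (c + 1) ^ 2) := by rw [← h, hc]; ring
    obtain ⟨z, hz⟩ := pow_of_mul_pow (by norm_num) (by norm_num) h1
    have h2 : Nat.Coprime c ((c + 1) ^ 2) := Nat.Coprime.pow_right _ (by simp)
    obtain ⟨u, hu⟩ := pow_of_mul h2 hz
    obtain ⟨v, hv⟩ := pow_of_mul' h2 hz
    obtain ⟨w, hw⟩ := root_of_coprime (by norm_num) hv
    exact not_near (x := c) (by norm_num) (by omega) hu (.inl hw)
  · have h2 : Nat.Coprime a ((a + 2) ^ 2) := Nat.Coprime.pow_right _ (by simp; rw [Nat.odd_iff]; omega)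
    obtain ⟨u, hu⟩ := pow_of_mul h2 h
    obtain ⟨v, hv⟩ := pow_of_mul' h2 h
    obtain ⟨w, hw⟩ := root_of_coprime (by norm_num) hv
    exact not_near (x := a) (by norm_num) (by omega) hu (.inr hw)

theorem cof_A3 {q Z c : ℕ} (hq : 1 ≤ q) (h : q ^ 2 + q + 1 = c * Z) : (LT.A 3).cof q = Z * (c * (q - 1) * (q ^ 2 - 1)) := by
  have e1 : (LT.A 3).cof q = (q ^ 2 - 1) * (q ^ 3 - 1) := by
    simp only [LT.cof, Finset.prod_range_succ, _root_.Nat.add_one_sub_one, _root_.Finset.range_one, _root_.Finset.prod_singleton, _root_.zero_add, _root_.Nat.reduceAdd]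
  obtain ⟨a, rfl⟩ : ∃ a, q = a + 1 := ⟨q - 1, by omega⟩
  have e2 : (a + 1) ^ 3 - 1 = a * ((a + 1) ^ 2 + (a + 1) + 1) := by
    have : (a + 1) ^ 3 = a * ((a + 1) ^ 2 + (a + 1) + 1) + 1 := by ring
    omega
  rw [e1, e2, h]
  simp only [Nat.add_sub_cancel]
  ring

theorem cof_U3 {q Z c : ℕ} (hq : 1 ≤ q) (h : q ^ 2 - q + 1 = c * Z) : (LT.U 3).cof q = Z * (c * (q + 1) * (q ^ 2 - 1)) := by
  have e1 : (LT.U 3).cof q = (q ^ 2 - 1) * (q ^ 3 + 1) := by
    simp only [LT.cof, Finset.prod_range_succ, _root_.Nat.add_one_sub_one, _root_.Finset.range_one, _root_.Finset.prod_singleton, _root_.Even.zero, ↓ _root_.reduceIte, _root_.zero_add, _root_.Nat.not_even_one, _root_.Nat.reduceAdd]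
  obtain ⟨a, rfl⟩ : ∃ a, q = a + 1 := ⟨q - 1, by omega⟩
  have e2 : (a + 1) ^ 3 + 1 = (a + 2) * ((a + 1) ^ 2 - (a + 1) + 1) := by
    have : (a + 1) ^ 2 - (a + 1) = a ^ 2 + a := by
      have : (a + 1) ^ 2 = a ^ 2 + a + (a + 1) := by ring
      omega
    rw [this]; ring
  rw [e1, e2, h]
  ring

theorem no_A3 {p f N m l : ℕ} (h : IsOrd (.A 3) p f N) (hl : l.Prime) (hN : N = m ^ l) : False := by
  have hl2 := hl.two_le
  have hq2 := h.two_le
  obtain ⟨Z, c, hZ, hc3, hc1, hZ3, H⟩ := plus_HH hq2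
  have hcof := cof_A3 (by omega) hZ
  have hroot : l ≠ 3 → ∃ a, p ^ f = a ^ l := by
    intro hl3
    obtain ⟨g, -, -, hg⟩ := h.exists_root hl hN (by
      show ¬ l ∣ 3 * (3 - 1) / 2
      norm_num
      rw [Nat.prime_dvd_prime_iff_eq hl Nat.prime_three]; exact hl3)
    exact ⟨_, hg⟩
  have hdd : (LT.A 3).dd (p ^ f) = Nat.gcd 3 (p ^ f - 1) := rfl
  have hccop : Nat.Coprime Z c := by
    by_cases hm : p ^ f % 3 = 1
    · rw [hc3 hm]; exact H.cop_small (by norm_num) le_rfl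
    · rw [hc1 hm]; exact Nat.coprime_one_right _
  obtain ⟨z, hz⟩ := h.power hN hcof H.pos
    (Nat.Coprime.mul_right (Nat.Coprime.mul_right hccop (H.cop_sub_one le_rfl)) (H.cop_sub (by norm_num))) (H.cop_q _)
    (Nat.Coprime.coprime_dvd_right (Nat.gcd_dvd_left _ _) (H.cop_small (by norm_num) le_rfl))
  have heq := h.eq
  rw [hcof, hdd, show (LT.A 3).expo = 3 from rfl] at heq
  generalize p ^ f = q at *
  by_cases hm : q % 3 = 1
  · have hc := hc3 hm
    subst hc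
    have hg : Nat.gcd 3 (q - 1) = 3 := Nat.gcd_eq_left (by omega)
    rw [hg] at heq
    by_cases hll : l = 2
    · subst hll
      obtain ⟨a, ha⟩ := hroot (by norm_num)
      have h3 : N = q ^ 3 * (Z * ((q - 1) * (q ^ 2 - 1))) := by
        have : 3 * N = 3 * (q ^ 3 * (Z * ((q - 1) * (q ^ 2 - 1)))) := by rw [heq]; ring
        omega
      obtain ⟨b, hb⟩ : ∃ b, q = b + 1 := ⟨q - 1, by omega⟩
      have e1 : q ^ 2 - 1 = b * (b + 2) := by
        rw [hb]
        have : (b + 1) ^ 2 = b * (b + 2) + 1 := by ring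
        omega
      have e2 : q - 1 = b := by omega
      have h4 : m ^ 2 = (a ^ 3 * z * b) ^ 2 * (b + 2) := by
        rw [← hN, h3, e1, e2, hz]
        have : q ^ 3 = (a ^ 3) ^ 2 := by rw [ha]; exact pow_right_comm _ _ _
        rw [this]; ring
      have ha0 : 0 < a := by
        rcases Nat.eq_zero_or_pos a with h0 | h0
        · rw [h0] at ha; omega
        · exact h0
      have hz0 : 0 < z := by
        rcases Nat.eq_zero_or_pos z with h0 | h0
        · rw [h0] at hz; have := H.pos; omega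
        · exact h0
      have hb0 : 0 < b := by omega
      obtain ⟨y, hy⟩ := pow_of_mul_pow (by norm_num) (by (clear * - ha0 hz0 hb0; positivity)) h4
      exact not_near (x := q) le_rfl (by omega) ha (.inl (by rw [← hy]; omega)) (b := y)
    · have : (q : ℤ) ^ 2 + q + 1 = 3 * (z : ℤ) ^ l := by
        have : q ^ 2 + q + 1 = 3 * z ^ l := by rw [hZ, hz]
        exact_mod_cast this
      rcases nagell hl hll this with h3 | h3 <;> omega
  · have hc := hc1 hm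
    subst hc
    rw [one_mul] at hZ
    rw [hz] at hZ
    by_cases hl3 : l = 3
    · subst hl3
      have hg : Nat.gcd 3 (q - 1) = 1 := by
        rw [← Nat.coprime_iff_gcd_eq_one, Nat.Prime.coprime_iff_not_dvd Nat.prime_three]
        clear * - hm hq2
        omega
      rw [hg, one_mul, one_mul, hN, hz] at heq
      obtain ⟨b, hb⟩ : ∃ b, q = b + 1 := ⟨q - 1, by omega⟩
      have e1 : q ^ 2 - 1 = b * (b + 2) := by
        rw [hb]
        have : (b + 1) ^ 2 = b * (b + 2) + 1 := by ring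
        omega
      have e2 : q - 1 = b := by omega
      have hz0 : 0 < z := by
        rcases Nat.eq_zero_or_pos z with h0 | h0
        · rw [h0] at hz; have := H.pos; omega
        · exact h0
      have h4 : m ^ 3 = (q * z) ^ 3 * (b ^ 2 * (b + 2)) := by
        rw [heq, e1, e2]; ring
      obtain ⟨y, hy⟩ := pow_of_mul_pow (by norm_num) (by positivity) h4
      exact cube_plus (by omega) hy
    · obtain ⟨a, ha⟩ := hroot hl3
      exact size_plus hl2 (by omega) ha hZ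

theorem no_U3 {p f N m l : ℕ} (h : IsOrd (.U 3) p f N) (hl : l.Prime) (hN : N = m ^ l) : False := by
  have hl2 := hl.two_le
  have hq2 := h.two_le
  have hq3 : p ^ f ≠ 2 := fun e => h.valid.2 ⟨rfl, e⟩
  obtain ⟨Z, c, hZ, hc3, hc1, hZ3, H⟩ := minus_HH hq2
  have hcof := cof_U3 (by omega) hZ
  have hroot : l ≠ 3 → ∃ a, p ^ f = a ^ l := by
    intro hl3
    obtain ⟨g, -, -, hg⟩ := h.exists_root hl hN (by
      show ¬ l ∣ 3 * (3 - 1) / 2
      norm_num
      rw [Nat.prime_dvd_prime_iff_eq hl Nat.prime_three]; exact hl3)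
    exact ⟨_, hg⟩
  have hdd : (LT.U 3).dd (p ^ f) = Nat.gcd 3 (p ^ f + 1) := rfl
  have hccop : Nat.Coprime Z c := by
    by_cases hm : p ^ f % 3 = 2
    · rw [hc3 hm]; exact H.cop_small (by norm_num) (by norm_num)
    · rw [hc1 hm]; exact Nat.coprime_one_right _
  obtain ⟨z, hz⟩ := h.power hN hcof H.pos
    (Nat.Coprime.mul_right (Nat.Coprime.mul_right hccop (H.cop_add_one (by norm_num))) (H.cop_sub (by norm_num))) (H.cop_q _)
    (Nat.Coprime.coprime_dvd_right (Nat.gcd_dvd_left _ _) (H.cop_small (by norm_num) (by norm_num)))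
  have heq := h.eq
  rw [hcof, hdd, show (LT.U 3).expo = 3 from rfl] at heq
  generalize p ^ f = q at *
  by_cases hm : q % 3 = 2
  · have hc := hc3 hm
    subst hc
    have hg : Nat.gcd 3 (q + 1) = 3 := Nat.gcd_eq_left (by omega)
    rw [hg] at heq
    by_cases hll : l = 2
    · subst hll
      obtain ⟨a, ha⟩ := hroot (by norm_num)
      have := sq_mod_three a
      omega
    · have : (-(q : ℤ)) ^ 2 + (-(q : ℤ)) + 1 = 3 * (z : ℤ) ^ l := by
        have h5 : q ^ 2 - q + 1 = 3 * z ^ l := by rw [hZ, hz]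
        have h6 : q ≤ q ^ 2 := by nlinarith only []
        have h7 : ((q ^ 2 - q + 1 : ℕ) : ℤ) = ((3 * z ^ l : ℕ) : ℤ) := by rw [h5]
        push_cast [Nat.cast_sub h6] at h7
        linear_combination h7
      rcases nagell hl hll this with h3 | h3 <;> (clear * - hq2 hm h3 hq3; omega)
  · have hc := hc1 hm
    subst hc
    rw [one_mul] at hZ
    rw [hz] at hZ
    by_cases hl3 : l = 3
    · subst hl3
      have hg : Nat.gcd 3 (q + 1) = 1 := by
        rw [← Nat.coprime_iff_gcd_eq_one, Nat.Prime.coprime_iff_not_dvd Nat.prime_three]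
        clear * - hm hq2
        omega
      rw [hg, one_mul, one_mul, hN, hz] at heq
      obtain ⟨b, hb⟩ : ∃ b, q = b + 1 := ⟨q - 1, by omega⟩
      have e1 : q ^ 2 - 1 = b * (b + 2) := by
        rw [hb]
        have : (b + 1) ^ 2 = b * (b + 2) + 1 := by ring
        omega
      have e2 : q + 1 = b + 2 := by omega
      have hz0 : 0 < z := by
        rcases Nat.eq_zero_or_pos z with h0 | h0
        · rw [h0] at hz; have := H.pos; omega
        · exact h0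
      have h4 : m ^ 3 = (q * z) ^ 3 * (b * (b + 2) ^ 2) := by
        rw [heq, e1, e2]; ring
      obtain ⟨y, hy⟩ := pow_of_mul_pow (by norm_num) (by positivity) h4
      exact cube_minus (by omega) hy
    · by_cases hll : l = 2
      · subst hll
        exact not_sq_minus hq2 hZ
      · obtain ⟨a, ha⟩ := hroot hl3
        exact size_minus (by omega) (by omega) ha hZ

end Cfsg.Agent.H437
end

-- part: H437/Small2
section
set_option autoImplicit false
namespace Cfsg.Agent.H437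
open Finset

theorem two_cubes {z w f : ℕ} (hf : f ≠ 0) (hw : w % 3 ≠ 0) (h : z ^ 3 = w ^ 3 + 2 * 3 ^ f) : False := by
  have h1 : w < z := lt_of_pow_lt_pow_left₀ 3 (Nat.zero_le _) (by have : 0 < 3 ^ f := by positivity
                                                                  omega)
  obtain ⟨t, rfl⟩ := Nat.exists_eq_add_of_lt h1
  obtain ⟨g, rfl⟩ := Nat.exists_eq_succ_of_ne_zero hf
  have h2 : (t + 1) ^ 3 + 3 * (w ^ 2 * (t + 1) + w * (t + 1) ^ 2) = 3 * (2 * 3 ^ g) := by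
    rw [pow_succ 3 g] at h
    have : (w + t + 1) ^ 3 = w ^ 3 + ((t + 1) ^ 3 + 3 * (w ^ 2 * (t + 1) + w * (t + 1) ^ 2)) := by ring
    omega
  have h3 : 3 ∣ (t + 1) ^ 3 := by omega
  obtain ⟨s, hs⟩ := Nat.prime_three.dvd_of_dvd_pow h3
  have h4 : w ^ 2 + 3 * (w * s + s ^ 2) ∣ 2 * 3 ^ (g + 1) := by
    refine ⟨9 * s, ?_⟩
    have : (w + t + 1) ^ 3 = w ^ 3 + 2 * 3 ^ (g + 1) := h
    rw [show w + t + 1 = w + 3 * s by omega] at this
    have e : (w + 3 * s) ^ 3 = w ^ 3 + (w ^ 2 + 3 * (w * s + s ^ 2)) * (9 * s) := by ring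
    omega
  have h5 : Nat.Coprime (w ^ 2 + 3 * (w * s + s ^ 2)) (3 ^ (g + 1)) := by
    apply Nat.Coprime.pow_right
    rw [Nat.coprime_comm, Nat.Prime.coprime_iff_not_dvd Nat.prime_three]
    intro h6
    have h7 : 3 ∣ w ^ 2 := by omega
    have := Nat.prime_three.dvd_of_dvd_pow h7
    omega
  have h6 := Nat.le_of_dvd (by norm_num) (h5.dvd_of_dvd_mul_right h4)
  have hs1 : 1 ≤ s := by omega
  nlinarith only [h6, hs1]

theorem ree_cube {f w : ℕ} (h : (3 ^ f) ^ 2 = w ^ 3 + 1) : f ≤ 1 := by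
  rcases Nat.eq_zero_or_pos w with hw | hw
  · subst hw
    have : 3 ^ f = 1 := by simpa using h
    rcases Nat.eq_zero_or_pos f with h0 | h0
    · omega
    · exact absurd this (Nat.one_lt_pow h0.ne' (by norm_num)).ne'
  obtain ⟨v, rfl⟩ : ∃ v, w = v + 1 := ⟨w - 1, by omega⟩
  have h1 : v ^ 2 + v + 1 ∣ 3 ^ (f * 2) := by
    rw [pow_mul, h]; exact ⟨v + 2, by ring⟩
  obtain ⟨j, -, hj⟩ := (Nat.dvd_prime_pow Nat.prime_three).1 h1
  have hj1 : j ≤ 1 := by
    by_contra hcon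
    obtain ⟨i, rfl⟩ : ∃ i, j = i + 2 := ⟨j - 2, by omega⟩
    have e : 3 ^ (i + 2) = 9 * 3 ^ i := by ring
    rw [e] at hj
    have h3 : v % 3 = 0 ∨ v % 3 = 1 ∨ v % 3 = 2 := by (clear * -; omega)
    have hk : v = 3 * (v / 3) + v % 3 := (Nat.div_add_mod v 3).symm
    generalize v / 3 = k at hk
    rcases h3 with h3 | h3 | h3
    · rw [h3, add_zero] at hk
      have e : v ^ 2 + v + 1 = 3 * (3 * k ^ 2 + k) + 1 := by rw [hk]; ring
      (clear * - hj e; omega)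
    · rw [h3] at hk
      have e : v ^ 2 + v + 1 = 9 * (k ^ 2 + k) + 3 := by rw [hk]; ring
      omega
    · rw [h3] at hk
      have e : v ^ 2 + v + 1 = 3 * (3 * k ^ 2 + 5 * k + 2) + 1 := by rw [hk]; ring
      omega
  have hv : v ≤ 1 := by
    have : 3 ^ j ≤ 3 ^ 1 := Nat.pow_le_pow_right (by norm_num) hj1
    nlinarith only [hj, this]
  have h2 : (3 ^ f) ^ 2 ≤ 3 ^ 2 := by
    rw [h]
    have : (v + 1) ^ 3 ≤ 2 ^ 3 := Nat.pow_le_pow_left (by omega) 3
    omega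
  have h3 : 3 ^ f ≤ 3 ^ 1 := by simpa using (Nat.pow_le_pow_iff_left (by norm_num : 2 ≠ 0)).1 h2
  exact (Nat.pow_le_pow_iff_right (by norm_num)).1 h3

theorem v2par {m d K u : ℕ} (hd : d % 2 = 1) (hu : u % 2 = 1) (hK : K ≠ 0) (h : d * m ^ 2 = K ^ 2 * (2 * u)) : False := by
  have F2 : Fact (Nat.Prime 2) := ⟨Nat.prime_two⟩
  have hm : m ≠ 0 := by
    rintro rfl
    have : K ^ 2 * (2 * u) ≠ 0 := by
      have : u ≠ 0 := by omega
      positivity
    exact this (by rw [← h]; simp)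
  have h1 := congrArg (padicValNat 2) h
  rw [padicValNat.mul (by omega) (pow_ne_zero _ hm), padicValNat.pow,
    padicValNat.mul (pow_ne_zero _ hK) (by omega), padicValNat.pow, padicValNat.mul (by norm_num) (by omega),
    padicValNat.self (by norm_num), padicValNat.eq_zero_of_not_dvd (by omega), padicValNat.eq_zero_of_not_dvd (by omega : ¬ 2 ∣ u)] at h1
  omega

/-- the common argument for `G₂` and `³D₄` -/
theorem phi36 {p f l : ℕ} (hp : p.Prime) (hf : f ≠ 0) (hl : l.Prime) (hl2 : l ≠ 2) (hq3 : 3 ≤ p ^ f)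
    (hroot : l ≠ 3 → ∃ a, p ^ f = a ^ l)
    (hplus : ∀ Z c, (p ^ f) ^ 2 + p ^ f + 1 = c * Z → Nat.Coprime Z c → HH (p ^ f) 3 Z → ∃ z, Z = z ^ l)
    (hminus : ∀ Z c, (p ^ f) ^ 2 - p ^ f + 1 = c * Z → Nat.Coprime Z c → HH (p ^ f) 6 Z → ∃ z, Z = z ^ l) : False := by
  obtain ⟨Z, c, hZ, hc3, hc1, hZ3, H⟩ := plus_HH (q := p ^ f) (by omega)
  obtain ⟨Z', c', hZ', hc3', hc1', hZ3', H'⟩ := minus_HH (q := p ^ f) (by omega)
  have hccop : Nat.Coprime Z c := by
    by_cases hm : p ^ f % 3 = 1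
    · rw [hc3 hm]; exact H.cop_small (by norm_num) le_rfl
    · rw [hc1 hm]; exact Nat.coprime_one_right _
  have hccop' : Nat.Coprime Z' c' := by
    by_cases hm : p ^ f % 3 = 2
    · rw [hc3' hm]; exact H'.cop_small (by norm_num) (by norm_num)
    · rw [hc1' hm]; exact Nat.coprime_one_right _
  obtain ⟨z, hz⟩ := hplus Z c hZ hccop H
  obtain ⟨w, hw⟩ := hminus Z' c' hZ' hccop' H'
  have h3 : p ^ f % 3 = 0 ∨ p ^ f % 3 = 1 ∨ p ^ f % 3 = 2 := by omega
  rcases h3 with h3 | h3 | h3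
  · by_cases hl3 : l = 3
    · subst hl3
      have hp3 : p = 3 := by
        have h4 : 3 ∣ p ^ f := Nat.dvd_of_mod_eq_zero h3
        exact ((Nat.prime_dvd_prime_iff_eq Nat.prime_three hp).1 (Nat.prime_three.dvd_of_dvd_pow h4)).symm
      subst hp3
      rw [hc1 (by rw [h3]; norm_num), one_mul, hz] at hZ
      rw [hc1' (by rw [h3]; norm_num), one_mul, hw] at hZ'
      refine two_cubes (z := z) (w := w) hf ?_ ?_
      · intro h5
        have h6 : 3 ∣ w ^ 3 := dvd_pow (Nat.dvd_of_mod_eq_zero h5) (by norm_num)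
        rw [← hw] at h6
        exact hZ3' (Nat.mod_eq_zero_of_dvd h6)
      · have h6 : 3 ^ f ≤ (3 ^ f) ^ 2 := by nlinarith only []
        clear * - h6 hZ hZ'
        omega
    · obtain ⟨a, ha⟩ := hroot hl3
      rw [hc1 (by rw [h3]; norm_num), one_mul, hz] at hZ
      exact size_plus hl.two_le (by omega) ha hZ
  · rw [hc3 h3, hz] at hZ
    have : ((p ^ f : ℕ) : ℤ) ^ 2 + ((p ^ f : ℕ) : ℤ) + 1 = 3 * (z : ℤ) ^ l := by exact_mod_cast hZ
    rcases nagell hl hl2 this with h5 | h5 <;> (clear * - hq3 hZ hz h3 h5; omega)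
  · rw [hc3' h3, hw] at hZ'
    have : (-((p ^ f : ℕ) : ℤ)) ^ 2 + (-((p ^ f : ℕ) : ℤ)) + 1 = 3 * (w : ℤ) ^ l := by
      have h6 : p ^ f ≤ (p ^ f) ^ 2 := by nlinarith only []
      have h7 : (((p ^ f) ^ 2 - p ^ f + 1 : ℕ) : ℤ) = ((3 * w ^ l : ℕ) : ℤ) := by rw [hZ']
      push_cast [Nat.cast_sub h6] at h7
      push_cast
      linear_combination h7
    rcases nagell hl hl2 this with h5 | h5 <;> omega

theorem root_six {T : LT} {p f N m l : ℕ} (h : IsOrd T p f N) (hl : l.Prime) (hN : N = m ^ l) (hl2 : l ≠ 2)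
    (hT : ∃ a b, T.expo = 2 ^ a * 3 ^ b) : l ≠ 3 → ∃ a, p ^ f = a ^ l := by
  intro hl3
  obtain ⟨g, -, -, hg⟩ := h.exists_root hl hN (by
    obtain ⟨a, b, hab⟩ := hT
    rw [hab, Nat.Prime.dvd_mul hl]
    rintro (h1 | h1)
    · exact hl2 ((Nat.prime_dvd_prime_iff_eq hl Nat.prime_two).1 (hl.dvd_of_dvd_pow h1))
    · exact hl3 ((Nat.prime_dvd_prime_iff_eq hl Nat.prime_three).1 (hl.dvd_of_dvd_pow h1)))
  exact ⟨_, hg⟩

/-- `q³ - 1`, `q³ + 1`, `q⁶ - 1` -/
theorem cube_sub (q : ℕ) : q ^ 3 - 1 = (q - 1) * (q ^ 2 + q + 1) := by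
  rcases Nat.eq_zero_or_pos q with h | h
  · subst h; rfl
  obtain ⟨a, rfl⟩ : ∃ a, q = a + 1 := ⟨q - 1, by omega⟩
  have : (a + 1) ^ 3 = a * ((a + 1) ^ 2 + (a + 1) + 1) + 1 := by ring
  rw [this]; simp only [_root_.add_tsub_cancel_right]

theorem cube_add (q : ℕ) : q ^ 3 + 1 = (q + 1) * (q ^ 2 - q + 1) := by
  rcases Nat.eq_zero_or_pos q with h | h
  · subst h; rfl
  obtain ⟨a, rfl⟩ : ∃ a, q = a + 1 := ⟨q - 1, by omega⟩
  have : (a + 1) ^ 2 - (a + 1) = a ^ 2 + a := by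
    have : (a + 1) ^ 2 = a ^ 2 + a + (a + 1) := by ring
    omega
  rw [this]; ring

theorem sq_sub (q : ℕ) : q ^ 2 - 1 = (q - 1) * (q + 1) := by
  rcases Nat.eq_zero_or_pos q with h | h
  · subst h; rfl
  obtain ⟨a, rfl⟩ : ∃ a, q = a + 1 := ⟨q - 1, by omega⟩
  have : (a + 1) ^ 2 = a * (a + 1 + 1) + 1 := by ring
  rw [this]; simp only [_root_.add_tsub_cancel_right]

theorem six_sub (q : ℕ) : q ^ 6 - 1 = (q ^ 2 - 1) * ((q ^ 2 + q + 1) * (q ^ 2 - q + 1)) := by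
  have h1 : q ^ 6 - 1 = (q ^ 3 - 1) * (q ^ 3 + 1) := by
    rw [← sq_sub]; congr 1; ring
  rw [h1, cube_sub, cube_add, sq_sub]; ring

theorem six_sub' (q : ℕ) : q ^ 6 - 1 = (q ^ 2 - 1) * ((q ^ 2) ^ 2 + q ^ 2 + 1) := by
  have := cube_sub (q ^ 2)
  rw [← this]; congr 1; ring

theorem four_sub (q : ℕ) : q ^ 4 - 1 = (q ^ 2 - 1) * (q ^ 2 + 1) := by
  rw [← sq_sub]; congr 1; ring

theorem plus_minus (q : ℕ) : (q ^ 2) ^ 2 + q ^ 2 + 1 = (q ^ 2 + q + 1) * (q ^ 2 - q + 1) := by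
  rcases Nat.eq_zero_or_pos q with h | h
  · subst h; rfl
  obtain ⟨a, rfl⟩ : ∃ a, q = a + 1 := ⟨q - 1, by omega⟩
  have : (a + 1) ^ 2 - (a + 1) = a ^ 2 + a := by
    have : (a + 1) ^ 2 = a ^ 2 + a + (a + 1) := by ring
    omega
  rw [this]; ring

theorem six_add (q : ℕ) : q ^ 6 + 1 = (q ^ 2 + 1) * (q ^ 4 - q ^ 2 + 1) := by
  have := cube_add (q ^ 2)
  have e : q ^ 6 = (q ^ 2) ^ 3 := by ring
  have e2 : q ^ 4 = (q ^ 2) ^ 2 := by ring
  rw [e, e2, this]

theorem eight_four (q : ℕ) : q ^ 8 + q ^ 4 + 1 = ((q ^ 2) ^ 2 + q ^ 2 + 1) * (q ^ 4 - q ^ 2 + 1) := by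
  have := plus_minus (q ^ 2)
  have e : q ^ 8 + q ^ 4 = ((q ^ 2) ^ 2) ^ 2 + (q ^ 2) ^ 2 := by ring
  have e2 : q ^ 4 = (q ^ 2) ^ 2 := by ring
  rw [e, this, e2]

theorem HH.cop_plus {q h Z : ℕ} (H : HH q h Z) (hd : ¬ h ∣ 3) : Nat.Coprime Z (q ^ 2 + q + 1) := by
  have := H.cop_sub hd
  rw [cube_sub] at this
  exact this.coprime_mul_left_right

theorem HH.cop_minus {q h Z : ℕ} (H : HH q h Z) (hd : ¬ h ∣ 6 ∨ h ∣ 3) : Nat.Coprime Z (q ^ 2 - q + 1) := by
  have := H.cop_add (d := 3) hd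
  rw [cube_add] at this
  exact this.coprime_mul_left_right

theorem HH.cop_twelve {q h Z : ℕ} (H : HH q h Z) (hd : ¬ h ∣ 12 ∨ h ∣ 6) : Nat.Coprime Z (q ^ 4 - q ^ 2 + 1) := by
  have := H.cop_add (d := 6) hd
  rw [six_add] at this
  exact this.coprime_mul_left_right

theorem no_G2 {p f N m l : ℕ} (h : IsOrd .G2 p f N) (hl : l.Prime) (hN : N = m ^ l) : False := by
  have hq3 : 3 ≤ p ^ f := h.valid
  have hcof : LT.G2.cof (p ^ f) = ((p ^ f) ^ 2 - 1) * ((p ^ f) ^ 6 - 1) := rfl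
  by_cases hl2 : l = 2
  · subst hl2
    have heq := h.eq
    rw [hcof, show LT.G2.expo = 6 from rfl, show LT.G2.dd (p ^ f) = 1 from rfl, one_mul, six_sub'] at heq
    generalize p ^ f = q at *
    have h1 : m ^ 2 = (q ^ 3 * (q ^ 2 - 1)) ^ 2 * ((q ^ 2) ^ 2 + q ^ 2 + 1) := by
      rw [← hN, heq]; ring
    have h2 : 0 < q ^ 2 - 1 := by
      have : 9 ≤ q ^ 2 := by nlinarith only [hq3]
      omega
    obtain ⟨y, hy⟩ := pow_of_mul_pow (by norm_num) (by positivity) h1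
    exact not_sq_plus (by nlinarith only [hq3]) hy
  · refine phi36 h.prime h.f_ne hl hl2 hq3 (root_six h hl hN hl2 ⟨1, 1, rfl⟩) ?_ ?_
    · intro Z c hZ hc H
      have e : LT.G2.cof (p ^ f) = Z * (c * ((p ^ f) ^ 2 - 1) ^ 2 * ((p ^ f) ^ 2 - p ^ f + 1)) := by
        rw [hcof, six_sub, hZ]; ring
      exact h.power hN e H.pos (Nat.Coprime.mul_right (Nat.Coprime.mul_right hc ((H.cop_sub (by norm_num)).pow_right 2))
        (H.cop_minus (.inr (by norm_num)))) (H.cop_q _) (Nat.coprime_one_right _)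
    · intro Z c hZ hc H
      have e : LT.G2.cof (p ^ f) = Z * (c * ((p ^ f) ^ 2 - 1) ^ 2 * ((p ^ f) ^ 2 + p ^ f + 1)) := by
        rw [hcof, six_sub, hZ]; ring
      exact h.power hN e H.pos (Nat.Coprime.mul_right (Nat.Coprime.mul_right hc ((H.cop_sub (by norm_num)).pow_right 2))
        (H.cop_plus (by norm_num))) (H.cop_q _) (Nat.coprime_one_right _)

theorem IsOrd.zz {T : LT} {p f N m i : ℕ} (h : IsOrd T p f N) (hN : N = m ^ 2) (hi : 1 ≤ i)
    (hF : ∀ Z, Z = ((p ^ f) ^ 2 ^ i) ^ 2 - (p ^ f) ^ 2 ^ i + 1 → HH (p ^ f) (3 * 2 ^ (i + 1)) Z →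
      ∃ W, T.cof (p ^ f) = Z * W ∧ Nat.Coprime Z W ∧ Nat.Coprime Z (T.dd (p ^ f))) : False := by
  have H := zz_HH h.two_le hi
  obtain ⟨W, h1, h2, h3⟩ := hF _ rfl H
  obtain ⟨z, hz⟩ := h.power hN h1 H.pos h2 (H.cop_q _) h3
  exact zz_not_sq h.two_le hz

theorem zz_one (q : ℕ) : (q ^ 2 ^ 1) ^ 2 - q ^ 2 ^ 1 + 1 = q ^ 4 - q ^ 2 + 1 := by
  rw [pow_one, ← pow_mul]

theorem zz_two (q : ℕ) : (q ^ 2 ^ 2) ^ 2 - q ^ 2 ^ 2 + 1 = q ^ 8 - q ^ 4 + 1 := by
  rw [← pow_mul]; norm_num only [_root_.Nat.add_left_cancel_iff]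

theorem no_TD4 {p f N m l : ℕ} (h : IsOrd .TD4 p f N) (hl : l.Prime) (hN : N = m ^ l) : False := by
  have hq2 : 2 ≤ p ^ f := h.two_le
  have hcof : LT.TD4.cof (p ^ f) = ((p ^ f) ^ 2 - 1) * ((p ^ f) ^ 6 - 1) * ((p ^ f) ^ 8 + (p ^ f) ^ 4 + 1) := rfl
  have key : ∃ W, LT.TD4.cof (p ^ f) = ((p ^ f) ^ 4 - (p ^ f) ^ 2 + 1) * W ∧
      (HH (p ^ f) 12 ((p ^ f) ^ 4 - (p ^ f) ^ 2 + 1) → Nat.Coprime ((p ^ f) ^ 4 - (p ^ f) ^ 2 + 1) W) := by
    refine ⟨((p ^ f) ^ 2 - 1) * ((p ^ f) ^ 6 - 1) * (((p ^ f) ^ 2) ^ 2 + (p ^ f) ^ 2 + 1), ?_, fun H => ?_⟩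
    · rw [hcof, eight_four]; ring
    · have h1 := H.cop_sub (d := 6) (by norm_num)
      refine Nat.Coprime.mul_right (Nat.Coprime.mul_right (H.cop_sub (by norm_num)) h1) ?_
      rw [six_sub'] at h1
      exact h1.coprime_mul_left_right
  have e4 := zz_one (p ^ f)
  have H12 := zz_HH hq2 (le_refl 1)
  rw [e4] at H12
  by_cases hl2 : l = 2
  · subst hl2
    refine h.zz hN le_rfl ?_
    intro Z hZ H
    rw [e4] at hZ
    subst hZ
    obtain ⟨W, h1, h2⟩ := key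
    exact ⟨W, h1, h2 H, Nat.coprime_one_right _⟩
  · by_cases hq : p ^ f = 2
    · obtain ⟨W, h1, h2⟩ := key
      obtain ⟨z, hz⟩ := h.power hN h1 H12.pos (h2 H12) (H12.cop_q _) (Nat.coprime_one_right _)
      rw [hq] at hz
      exact not_pow_of_prime (r := 13) (by norm_num) (by norm_num) (by norm_num) hl.two_le hz
    have hq3 : 3 ≤ p ^ f := by omega
    have h2l : Nat.Coprime 2 l := (Nat.coprime_primes Nat.prime_two hl).2 (Ne.symm hl2)
    refine phi36 h.prime h.f_ne hl hl2 hq3 (root_six h hl hN hl2 ⟨2, 1, rfl⟩) ?_ ?_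
    · intro Z c hZ hc H
      have e : LT.TD4.cof (p ^ f) = Z ^ 2 * (c ^ 2 * ((p ^ f) ^ 2 - 1) ^ 2 * ((p ^ f) ^ 2 - p ^ f + 1) ^ 2 *
          ((p ^ f) ^ 4 - (p ^ f) ^ 2 + 1)) := by
        rw [hcof, eight_four, six_sub, plus_minus, hZ]; ring
      obtain ⟨z, hz⟩ := h.power hN e (pow_pos H.pos 2) (Nat.Coprime.pow_left 2 (Nat.Coprime.mul_right
        (Nat.Coprime.mul_right (Nat.Coprime.mul_right (hc.pow_right 2) ((H.cop_sub (by norm_num)).pow_right 2))
        ((H.cop_minus (.inr (by norm_num))).pow_right 2)) (H.cop_twelve (.inr (by norm_num)))))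
        (Nat.Coprime.pow_left 2 (H.cop_q _)) (Nat.coprime_one_right _)
      exact root_of_coprime h2l hz
    · intro Z c hZ hc H
      have e : LT.TD4.cof (p ^ f) = Z ^ 2 * (c ^ 2 * ((p ^ f) ^ 2 - 1) ^ 2 * ((p ^ f) ^ 2 + p ^ f + 1) ^ 2 *
          ((p ^ f) ^ 4 - (p ^ f) ^ 2 + 1)) := by
        rw [hcof, eight_four, six_sub, plus_minus, hZ]; ring
      obtain ⟨z, hz⟩ := h.power hN e (pow_pos H.pos 2) (Nat.Coprime.pow_left 2 (Nat.Coprime.mul_right
        (Nat.Coprime.mul_right (Nat.Coprime.mul_right (hc.pow_right 2) ((H.cop_sub (by norm_num)).pow_right 2))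
        ((H.cop_plus (by norm_num)).pow_right 2)) (H.cop_twelve (.inr (by norm_num)))))
        (Nat.Coprime.pow_left 2 (H.cop_q _)) (Nat.coprime_one_right _)
      exact root_of_coprime h2l hz

theorem no_Ree {p f N m l : ℕ} (h : IsOrd .Ree p f N) (hl : l.Prime) (hN : N = m ^ l) : False := by
  have hq2 : 2 ≤ p ^ f := h.two_le
  obtain ⟨hp, s, hs, hfs⟩ := h.valid
  subst hp
  have hcof : LT.Ree.cof (3 ^ f) = (3 ^ f - 1) * ((3 ^ f) ^ 3 + 1) := rfl
  by_cases hl2 : l = 2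
  · subst hl2
    obtain ⟨g, -, hg, -⟩ := h.exists_root Nat.prime_two hN (by show ¬ 2 ∣ 3; norm_num)
    omega
  obtain ⟨Z, c, hZ, hc3, hc1, hZ3, H⟩ := minus_HH hq2
  have hm : 3 ^ f % 3 = 0 := Nat.mod_eq_zero_of_dvd (dvd_pow_self 3 h.f_ne)
  have hc := hc1 (by rw [hm]; norm_num)
  rw [hc, one_mul] at hZ
  have e : LT.Ree.cof (3 ^ f) = Z * ((3 ^ f - 1) * (3 ^ f + 1)) := by rw [hcof, cube_add, hZ]; ring
  obtain ⟨z, hz⟩ := h.power hN e H.pos (Nat.Coprime.mul_right (H.cop_sub_one (by norm_num)) (H.cop_add_one (by norm_num)))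
    (H.cop_q _) (Nat.coprime_one_right _)
  by_cases hl3 : l = 3
  · subst hl3
    have heq := h.eq
    rw [e, hz, ← sq_sub, show LT.Ree.expo = 3 from rfl, show LT.Ree.dd (3 ^ f) = 1 from rfl, one_mul, hN] at heq
    have hz0 : 0 < z := by
      rcases Nat.eq_zero_or_pos z with h0 | h0
      · rw [h0] at hz; have := H.pos; omega
      · exact h0
    have h4 : m ^ 3 = (3 ^ f * z) ^ 3 * ((3 ^ f) ^ 2 - 1) := by
      rw [heq]; ring
    obtain ⟨y, hy⟩ := pow_of_mul_pow (by norm_num) (by positivity) h4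
    have h5 : 1 ≤ (3 ^ f) ^ 2 := Nat.one_le_pow _ _ (by positivity)
    have := ree_cube (f := f) (w := y) (by omega)
    omega
  · obtain ⟨a, ha⟩ := root_six h hl hN hl2 ⟨0, 1, rfl⟩ hl3
    rw [hz] at hZ
    exact size_minus (by have := hl.two_le; (clear * - hl2 this; omega)) hq2 ha hZ

end Cfsg.Agent.H437
end

-- part: H437/Small3
section
set_option autoImplicit false
namespace Cfsg.Agent.H437
open Finset

theorem IsOrd.fac_sq {T : LT} {p f N m j : ℕ} (h : IsOrd T p f N) (hN : N = m ^ 2)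
    (hj : 2 ≤ j) (hF : Fac T (p ^ f) j 1) : ∃ c z, (p ^ f) ^ 2 ^ (j - 1) + 1 = c * z ^ 2 ∧ ((p ^ f) % 2 = 0 → c = 1) ∧
      ((p ^ f) % 2 = 1 → c = 2) ∧ z ^ 2 % 2 = 1 := by
  obtain ⟨Y, c, hY⟩ := exists_YY h.two_le hj
  obtain ⟨W, h1, h2, h3⟩ := hF Y c hY
  have h4 := h.eq
  rw [h1, pow_one] at h4
  obtain ⟨z, hz⟩ := power_part hY.pos hN h4 h2 h3
  exact ⟨c, z, by rw [← hz]; exact hY.eq, hY.even, hY.odd, by rw [← hz]; exact hY.Yodd⟩

theorem even_two {p f : ℕ} (hp : p.Prime) (h : p ^ f % 2 = 0) : p = 2 :=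
  ((Nat.prime_dvd_prime_iff_eq Nat.prime_two hp).1 (Nat.prime_two.dvd_of_dvd_pow (Nat.dvd_of_mod_eq_zero h))).symm

theorem IsOrd.odd_q {T : LT} {p f N m j : ℕ} (h : IsOrd T p f N) (hN : N = m ^ 2)
    (hj : 2 ≤ j) (hF : Fac T (p ^ f) j 1) : (p ^ f) % 2 = 1 := by
  rcases Nat.mod_two_eq_zero_or_one (p ^ f) with h' | h'
  · exact (h.fac_two hN hj hF (.inl (even_two h.prime h'))).elim
  · exact h'

theorem six_sq {a x : ℕ} (h : 6 * a = x ^ 2) : ∃ t, a = 6 * t ^ 2 := by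
  have h2 : 2 ∣ x := Nat.prime_two.dvd_of_dvd_pow (⟨3 * a, by rw [← h]; ring⟩ : 2 ∣ x ^ 2)
  have h3 : 3 ∣ x := Nat.prime_three.dvd_of_dvd_pow (⟨2 * a, by rw [← h]; ring⟩ : 3 ∣ x ^ 2)
  obtain ⟨t, rfl⟩ : 6 ∣ x := by
    have := Nat.Coprime.mul_dvd_of_dvd_of_dvd (by norm_num : Nat.Coprime 2 3) h2 h3
    simpa using this
  refine ⟨t, ?_⟩
  have : (6 * t) ^ 2 = 6 * (6 * t ^ 2) := by ring
  omega

theorem no_A4_sq {p f N m : ℕ} (h : IsOrd (.A 4) p f N) (hN : N = m ^ 2) : False := by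
  have hq2 := h.two_le
  have hF : Fac (.A 4) (p ^ f) 2 1 := fac_A (n := 4) le_rfl
  have hodd := h.odd_q hN le_rfl hF
  obtain ⟨c, z, hz, -, hc, -⟩ := h.fac_sq hN le_rfl hF
  have hc := hc hodd
  subst hc
  obtain ⟨Z, c, hZ, hc3, hc1, hZ3, H⟩ := plus_HH hq2
  have heq := h.eq
  have e1 : (LT.A 4).cof (p ^ f) = ((p ^ f) ^ 2 - 1) * ((p ^ f) ^ 3 - 1) * ((p ^ f) ^ 4 - 1) := by
    simp only [LT.cof, Finset.prod_range_succ, _root_.Nat.add_one_sub_one, _root_.Finset.range_one, _root_.Finset.prod_singleton, _root_.zero_add, _root_.Nat.reduceAdd]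
  rw [e1, show (LT.A 4).expo = 6 from rfl, show (LT.A 4).dd (p ^ f) = Nat.gcd 4 (p ^ f - 1) from rfl, hN] at heq
  generalize p ^ f = q at *
  rw [show 2 ^ (2 - 1) = 2 from rfl] at hz
  rw [four_sub, hz] at heq
  have hK : 0 < q ^ 3 * (q ^ 2 - 1) * z := by
    have h1 : 4 ≤ q ^ 2 := by nlinarith only [hq2]
    have h2 : 0 < q ^ 2 - 1 := by omega
    have h3 : 0 < z := by
      rcases Nat.eq_zero_or_pos z with h0 | h0
      · rw [h0] at hz; omega
      · exact h0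
    (clear * - hq2 h2 h3; positivity)
  have h4 : q % 4 = 1 ∨ q % 4 = 3 := by omega
  rcases h4 with h4 | h4
  · have hg : Nat.gcd 4 (q - 1) = 4 := Nat.gcd_eq_left (by omega)
    rw [hg] at heq
    have h5 : (2 * m) ^ 2 = (q ^ 3 * (q ^ 2 - 1) * z) ^ 2 * (2 * (q ^ 3 - 1)) := by
      rw [mul_pow, show 2 ^ 2 = 4 from rfl, heq]; ring
    obtain ⟨y, hy⟩ := pow_of_mul_pow (by norm_num) hK h5
    rw [cube_sub, hZ] at hy
    have h6 : Z * (2 * c * (q - 1)) = y ^ 2 := by rw [← hy]; ring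
    have hccop : Nat.Coprime Z c := by
      by_cases hm : q % 3 = 1
      · rw [hc3 hm]; exact H.cop_small (by norm_num) le_rfl
      · rw [hc1 hm]; exact Nat.coprime_one_right _
    have h7 : Nat.Coprime Z (2 * c * (q - 1)) :=
      Nat.Coprime.mul_right (Nat.Coprime.mul_right H.cop_two hccop) (H.cop_sub_one le_rfl)
    obtain ⟨u, hu⟩ := pow_of_mul h7 h6
    obtain ⟨v, hv⟩ := pow_of_mul' h7 h6
    by_cases hm : q % 3 = 1
    · rw [hc3 hm] at hv
      obtain ⟨t, ht⟩ := six_sq hv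
      have h8 : q = 6 * t ^ 2 + 1 := by (clear * - hm ht; omega)
      have h9 : t % 2 = 0 := by
        rcases Nat.even_or_odd' t with ⟨k, hk | hk⟩
        · omega
        · exfalso
          rw [hk] at h8
          ring_nf at h8
          (clear * - h4 h8; omega)
      rw [h8] at hz
      have := special_plus h9 hz
      rw [this] at h8
      (clear * - hq2 h8; omega)
    · rw [hc1 hm, one_mul, hu] at hZ
      exact not_sq_plus (by omega) hZ
  · have hg : Nat.gcd 4 (q - 1) = 2 := by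
      obtain ⟨k, hk⟩ : ∃ k, q = 4 * k + 3 := ⟨q / 4, by omega⟩
      rw [hk, show 4 * k + 3 - 1 = 2 * (2 * k + 1) by (clear * - hk; omega), show 4 = 2 * 2 from rfl, Nat.gcd_mul_left]
      have : Nat.gcd 2 (2 * k + 1) = 1 := by
        rw [← Nat.coprime_iff_gcd_eq_one, Nat.coprime_two_left, Nat.odd_iff]; omega
      rw [this]
    rw [hg] at heq
    have h5 : m ^ 2 = (q ^ 3 * (q ^ 2 - 1) * z) ^ 2 * (q ^ 3 - 1) := by
      have : 2 * m ^ 2 = 2 * ((q ^ 3 * (q ^ 2 - 1) * z) ^ 2 * (q ^ 3 - 1)) := by rw [heq]; ring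
      omega
    obtain ⟨y, hy⟩ := pow_of_mul_pow (by norm_num) hK h5
    have h6 : (q ^ 3 - 1) % 4 = 2 := by
      obtain ⟨k, hk⟩ : ∃ k, q = 4 * k + 3 := ⟨q / 4, by omega⟩
      have : q ^ 3 = 4 * (16 * k ^ 3 + 36 * k ^ 2 + 27 * k + 6) + 3 := by rw [hk]; ring
      (clear * - this; omega)
    have h7 : y ^ 2 % 4 = 0 ∨ y ^ 2 % 4 = 1 := by
      rcases Nat.even_or_odd' y with ⟨k, rfl | rfl⟩
      · left; ring_nf; omega
      · right; ring_nf; (clear * -; omega)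
    omega

theorem no_U4_sq {p f N m : ℕ} (h : IsOrd (.U 4) p f N) (hN : N = m ^ 2) : False := by
  have hq2 := h.two_le
  have hF : Fac (.U 4) (p ^ f) 2 1 := fac_U (n := 4) le_rfl
  have hodd := h.odd_q hN le_rfl hF
  obtain ⟨c, z, hz, -, hc, -⟩ := h.fac_sq hN le_rfl hF
  have hc := hc hodd
  subst hc
  obtain ⟨Z, c, hZ, hc3, hc1, hZ3, H⟩ := minus_HH hq2
  have heq := h.eq
  have e1 : (LT.U 4).cof (p ^ f) = ((p ^ f) ^ 2 - 1) * ((p ^ f) ^ 3 + 1) * ((p ^ f) ^ 4 - 1) := by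
    have : ¬ Even 1 := by decide
    simp only [LT.cof, Finset.prod_range_succ, _root_.Nat.add_one_sub_one, _root_.Finset.range_one, _root_.Finset.prod_singleton, _root_.Even.zero, ↓ _root_.reduceIte, _root_.zero_add, _root_.Nat.not_even_one, _root_.Nat.reduceAdd, _root_.even_two]
  rw [e1, show (LT.U 4).expo = 6 from rfl, show (LT.U 4).dd (p ^ f) = Nat.gcd 4 (p ^ f + 1) from rfl, hN] at heq
  generalize p ^ f = q at *
  rw [show 2 ^ (2 - 1) = 2 from rfl] at hz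
  rw [four_sub, hz] at heq
  have hK : 0 < q ^ 3 * (q ^ 2 - 1) * z := by
    have h1 : 4 ≤ q ^ 2 := by nlinarith only [hq2]
    have h2 : 0 < q ^ 2 - 1 := by omega
    have h3 : 0 < z := by
      rcases Nat.eq_zero_or_pos z with h0 | h0
      · rw [h0] at hz; omega
      · exact h0
    (clear * - hq2 h2 h3; positivity)
  have h4 : q % 4 = 1 ∨ q % 4 = 3 := by omega
  rcases h4 with h4 | h4
  · have hg : Nat.gcd 4 (q + 1) = 2 := by
      obtain ⟨k, hk⟩ : ∃ k, q = 4 * k + 1 := ⟨q / 4, by omega⟩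
      rw [hk, show 4 * k + 1 + 1 = 2 * (2 * k + 1) by omega, show 4 = 2 * 2 from rfl, Nat.gcd_mul_left]
      have : Nat.gcd 2 (2 * k + 1) = 1 := by
        rw [← Nat.coprime_iff_gcd_eq_one, Nat.coprime_two_left, Nat.odd_iff]; omega
      rw [this]
    rw [hg] at heq
    have h5 : m ^ 2 = (q ^ 3 * (q ^ 2 - 1) * z) ^ 2 * (q ^ 3 + 1) := by
      have : 2 * m ^ 2 = 2 * ((q ^ 3 * (q ^ 2 - 1) * z) ^ 2 * (q ^ 3 + 1)) := by rw [heq]; ring
      omega
    obtain ⟨y, hy⟩ := pow_of_mul_pow (by norm_num) hK h5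
    have h6 : (q ^ 3 + 1) % 4 = 2 := by
      obtain ⟨k, hk⟩ : ∃ k, q = 4 * k + 1 := ⟨q / 4, by omega⟩
      have : q ^ 3 = 4 * (16 * k ^ 3 + 12 * k ^ 2 + 3 * k) + 1 := by rw [hk]; ring
      (clear * - this; omega)
    have h7 : y ^ 2 % 4 = 0 ∨ y ^ 2 % 4 = 1 := by
      rcases Nat.even_or_odd' y with ⟨k, rfl | rfl⟩
      · left; ring_nf; omega
      · right; ring_nf; (clear * -; omega)
    omega
  · have hg : Nat.gcd 4 (q + 1) = 4 := Nat.gcd_eq_left (by omega)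
    rw [hg] at heq
    have h5 : (2 * m) ^ 2 = (q ^ 3 * (q ^ 2 - 1) * z) ^ 2 * (2 * (q ^ 3 + 1)) := by
      rw [mul_pow, show 2 ^ 2 = 4 from rfl, heq]; ring
    obtain ⟨y, hy⟩ := pow_of_mul_pow (by norm_num) hK h5
    rw [cube_add, hZ] at hy
    have h6 : Z * (2 * c * (q + 1)) = y ^ 2 := by rw [← hy]; ring
    have hccop : Nat.Coprime Z c := by
      by_cases hm : q % 3 = 2
      · rw [hc3 hm]; exact H.cop_small (by norm_num) (by norm_num)
      · rw [hc1 hm]; exact Nat.coprime_one_right _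
    have h7 : Nat.Coprime Z (2 * c * (q + 1)) :=
      Nat.Coprime.mul_right (Nat.Coprime.mul_right H.cop_two hccop) (H.cop_add_one (by norm_num))
    obtain ⟨u, hu⟩ := pow_of_mul h7 h6
    obtain ⟨v, hv⟩ := pow_of_mul' h7 h6
    by_cases hm : q % 3 = 2
    · rw [hc3 hm] at hv
      obtain ⟨t, ht⟩ := six_sq hv
      have h8 : q = 6 * t ^ 2 - 1 := by (clear * - ht; omega)
      have h9 : t % 2 = 0 := by
        rcases Nat.even_or_odd' t with ⟨k, hk | hk⟩
        · omega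
        · exfalso
          rw [hk] at ht
          ring_nf at ht
          (clear * - h4 ht; omega)
      have h10 : 1 ≤ t := by
        rcases Nat.eq_zero_or_pos t with h0 | h0
        · rw [h0] at ht; (clear * - ht; omega)
        · exact h0
      rw [h8] at hz
      exact special_minus h9 h10 hz
    · rw [hc1 hm, one_mul, hu] at hZ
      exact not_sq_minus (by omega) hZ

theorem odd_five {q : ℕ} (h : q % 2 = 1) : ∃ E, q ^ 5 - 1 = (q - 1) * E ∧ E % 2 = 1 := by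
  obtain ⟨k, hk⟩ : ∃ k, q = 2 * k + 1 := ⟨q / 2, by omega⟩
  refine ⟨q ^ 4 + q ^ 3 + q ^ 2 + q + 1, ?_, ?_⟩
  · have : q ^ 5 = (2 * k) * (q ^ 4 + q ^ 3 + q ^ 2 + q + 1) + 1 := by rw [hk]; ring
    rw [this, show q - 1 = 2 * k by omega]; simp
  · have : q ^ 4 + q ^ 3 + q ^ 2 + q + 1 = 2 * (8 * k ^ 4 + 20 * k ^ 3 + 20 * k ^ 2 + 10 * k + 2) + 1 := by rw [hk]; ring
    (clear * - this; omega)

theorem odd_five' {q : ℕ} (h : q % 2 = 1) : ∃ E, q ^ 5 + 1 = (q + 1) * E ∧ E % 2 = 1 := by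
  obtain ⟨k, hk⟩ : ∃ k, q = 2 * k + 1 := ⟨q / 2, by omega⟩
  refine ⟨16 * k ^ 4 + 24 * k ^ 3 + 16 * k ^ 2 + 4 * k + 1, ?_, by omega⟩
  rw [hk]; ring

theorem no_A5_sq {p f N m : ℕ} (h : IsOrd (.A 5) p f N) (hN : N = m ^ 2) : False := by
  have hq2 := h.two_le
  have hF : Fac (.A 5) (p ^ f) 2 1 := fac_A (n := 5) (by norm_num)
  have hodd := h.odd_q hN le_rfl hF
  have heq := h.eq
  have e1 : (LT.A 5).cof (p ^ f) = ((p ^ f) ^ 2 - 1) * ((p ^ f) ^ 3 - 1) * ((p ^ f) ^ 4 - 1) * ((p ^ f) ^ 5 - 1) := by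
    simp only [LT.cof, Finset.prod_range_succ, _root_.Nat.add_one_sub_one, _root_.Finset.range_one, _root_.Finset.prod_singleton, _root_.zero_add, _root_.Nat.reduceAdd]
  rw [e1, show (LT.A 5).expo = 10 from rfl, show (LT.A 5).dd (p ^ f) = Nat.gcd 5 (p ^ f - 1) from rfl, hN] at heq
  generalize p ^ f = q at *
  obtain ⟨E, hE, hE2⟩ := odd_five hodd
  obtain ⟨k, hk⟩ : ∃ k, q = 2 * k + 1 := ⟨q / 2, by omega⟩
  have hg : Nat.gcd 5 (q - 1) % 2 = 1 := by
    rcases (Nat.dvd_prime Nat.prime_five).1 (Nat.gcd_dvd_left 5 (q - 1)) with h | h <;> rw [h]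
  have hB : (q ^ 2 + q + 1) % 2 = 1 := by
    have : q ^ 2 + q + 1 = 2 * (2 * k ^ 2 + 3 * k + 1) + 1 := by rw [hk]; ring
    (clear * - this; omega)
  obtain ⟨Y, hY, hY2⟩ : ∃ Y, q ^ 2 + 1 = 2 * Y ∧ Y % 2 = 1 := by
    refine ⟨2 * k ^ 2 + 2 * k + 1, by rw [hk]; ring, by omega⟩
  have h1 : 4 ≤ q ^ 2 := by nlinarith only [hq2]
  have h2 : 0 < q ^ 2 - 1 := by (clear * - h1; omega)
  have h3 : 0 < q - 1 := by (clear * - hq2; omega)
  refine v2par (m := m) (d := Nat.gcd 5 (q - 1)) (K := q ^ 5 * (q ^ 2 - 1) * (q - 1)) (u := (q ^ 2 + q + 1) * Y * E) hg ?_ ?_ ?_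
  · rw [Nat.mul_mod, Nat.mul_mod (q ^ 2 + q + 1), hB, hY2, hE2]
  · (clear * - hq2 h2 h3; positivity)
  · rw [heq, cube_sub, four_sub, hY, hE]; ring

theorem no_U5_sq {p f N m : ℕ} (h : IsOrd (.U 5) p f N) (hN : N = m ^ 2) : False := by
  have hq2 := h.two_le
  have hF : Fac (.U 5) (p ^ f) 2 1 := fac_U (n := 5) (by norm_num)
  have hodd := h.odd_q hN le_rfl hF
  have heq := h.eq
  have e1 : (LT.U 5).cof (p ^ f) = ((p ^ f) ^ 2 - 1) * ((p ^ f) ^ 3 + 1) * ((p ^ f) ^ 4 - 1) * ((p ^ f) ^ 5 + 1) := by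
    have : ¬ Even 1 := by decide
    have h3 : ¬ Even 3 := by decide
    simp only [LT.cof, Finset.prod_range_succ, h3, _root_.Nat.add_one_sub_one, _root_.Finset.range_one, _root_.Finset.prod_singleton, _root_.Even.zero, ↓ _root_.reduceIte, _root_.zero_add, _root_.Nat.not_even_one, _root_.Nat.reduceAdd, _root_.even_two]
  rw [e1, show (LT.U 5).expo = 10 from rfl, show (LT.U 5).dd (p ^ f) = Nat.gcd 5 (p ^ f + 1) from rfl, hN] at heq
  generalize p ^ f = q at *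
  obtain ⟨E, hE, hE2⟩ := odd_five' hodd
  obtain ⟨k, hk⟩ : ∃ k, q = 2 * k + 1 := ⟨q / 2, by omega⟩
  have hg : Nat.gcd 5 (q + 1) % 2 = 1 := by
    rcases (Nat.dvd_prime Nat.prime_five).1 (Nat.gcd_dvd_left 5 (q + 1)) with h | h <;> rw [h]
  have h0 : q ≤ q ^ 2 := by nlinarith only []
  have hB : (q ^ 2 - q + 1) % 2 = 1 := by
    have : q ^ 2 = 2 * (2 * k ^ 2 + k) + q := by rw [hk]; ring
    (clear * - this; omega)
  obtain ⟨Y, hY, hY2⟩ : ∃ Y, q ^ 2 + 1 = 2 * Y ∧ Y % 2 = 1 := by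
    refine ⟨2 * k ^ 2 + 2 * k + 1, by rw [hk]; ring, by omega⟩
  have h1 : 4 ≤ q ^ 2 := by nlinarith only [hq2]
  have h2 : 0 < q ^ 2 - 1 := by omega
  refine v2par (m := m) (d := Nat.gcd 5 (q + 1)) (K := q ^ 5 * (q ^ 2 - 1) * (q + 1)) (u := (q ^ 2 - q + 1) * Y * E) hg ?_ ?_ ?_
  · rw [Nat.mul_mod, Nat.mul_mod (q ^ 2 - q + 1), hB, hY2, hE2]
  · (clear * - hq2 h2; positivity)
  · rw [heq, cube_add, four_sub, hY, hE]; ring

theorem no_P4_sq {p f N m : ℕ} (h : IsOrd (.P 4) p f N) (hN : N = m ^ 2) : False := by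
  have hq2 := h.two_le
  have heq := h.eq
  have e1 : (LT.P 4).cof (p ^ f) = ((p ^ f) ^ 4 - 1) * (((p ^ f) ^ 2 - 1) * ((p ^ f) ^ 4 - 1) * ((p ^ f) ^ 6 - 1)) := by
    simp only [LT.cof, Finset.prod_range_succ, _root_.Nat.add_one_sub_one, _root_.Finset.range_one, _root_.Finset.prod_singleton, _root_.zero_add, _root_.mul_one, _root_.Nat.reduceAdd, _root_.Nat.reduceMul]
  rw [e1, show (LT.P 4).expo = 12 from rfl, show (LT.P 4).dd (p ^ f) = Nat.gcd 4 ((p ^ f) ^ 4 - 1) from rfl, hN] at heq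
  generalize p ^ f = q at *
  have hg : ∃ e, Nat.gcd 4 (q ^ 4 - 1) = e ^ 2 := by
    rcases Nat.even_or_odd' q with ⟨k, hk | hk⟩
    · refine ⟨1, ?_⟩
      have h5 : q ^ 4 = 2 * (8 * k ^ 4) := by rw [hk]; ring
      have h6 : 1 ≤ q ^ 4 := Nat.one_le_pow _ _ (by omega)
      have : Nat.Coprime 2 (q ^ 4 - 1) := by
        rw [Nat.coprime_two_left, Nat.odd_iff]; omega
      have := this.mul_left this
      simpa only [_root_.one_pow, _root_.Nat.reduceMul] using this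
    · refine ⟨2, ?_⟩
      apply Nat.gcd_eq_left
      have h5 : q ^ 4 = 4 * (4 * k ^ 4 + 8 * k ^ 3 + 6 * k ^ 2 + 2 * k) + 1 := by rw [hk]; ring
      omega
  obtain ⟨e, he⟩ := hg
  rw [he, six_sub'] at heq
  have h1 : 4 ≤ q ^ 2 := by nlinarith only [hq2]
  have h2 : 0 < q ^ 2 - 1 := by omega
  have h3 : 0 < q ^ 4 - 1 := by
    have : q ^ 4 = q ^ 2 * q ^ 2 := by ring
    have : 4 * 4 ≤ q ^ 2 * q ^ 2 := Nat.mul_le_mul h1 h1
    omega
  have h4 : (e * m) ^ 2 = (q ^ 6 * (q ^ 4 - 1) * (q ^ 2 - 1)) ^ 2 * ((q ^ 2) ^ 2 + q ^ 2 + 1) := by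
    rw [mul_pow, heq]; ring
  obtain ⟨y, hy⟩ := pow_of_mul_pow (by norm_num) (by (clear * - hq2 h2 h3; positivity)) h4
  exact not_sq_plus (by omega) hy

theorem fac_M4 {q : ℕ} : Fac (.M 4) q 3 1 := by
  intro Y c h
  have heq := h.eq
  rw [show 2 ^ (3 - 1) = 4 from rfl] at heq
  refine ⟨q ^ 12 * (c * ((q ^ 2 - 1) * (q ^ 4 - 1) * (q ^ 6 - 1))), ?_, ?_, ?_⟩
  · have : (LT.M 4).cof q = (q ^ 4 + 1) * ((q ^ 2 - 1) * (q ^ 4 - 1) * (q ^ 6 - 1)) := by
      simp only [LT.cof, Finset.prod_range_succ, _root_.Nat.add_one_sub_one, _root_.Finset.range_one, _root_.Finset.prod_singleton, _root_.zero_add, _root_.mul_one, _root_.Nat.reduceAdd, _root_.Nat.reduceMul]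
    rw [this, heq, show (LT.M 4).expo = 12 from rfl]; ring
  · exact Nat.Coprime.mul_right (h.cop_q _) <| Nat.Coprime.mul_right h.cop_c (Nat.Coprime.mul_right (Nat.Coprime.mul_right (h.cop_sub (by norm_num))
      (h.cop_sub (by norm_num))) (h.cop_sub (by norm_num)))
  · exact Nat.Coprime.coprime_dvd_right (Nat.gcd_dvd_left _ _) h.cop_four

theorem no_E8_sq {p f N m : ℕ} (h : IsOrd .E8 p f N) (hN : N = m ^ 2) : False := by
  refine h.zz (i := 2) hN (by norm_num) ?_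
  intro Z hZ H
  rw [zz_two] at hZ
  generalize p ^ f = q at *
  have h24 : q ^ 24 - 1 = Z * ((q ^ 12 - 1) * (q ^ 4 + 1)) := by
    have e1 : q ^ 24 - 1 = (q ^ 12 - 1) * (q ^ 12 + 1) := by
      rw [← sq_sub, ← pow_mul]
    have e2 : q ^ 12 + 1 = (q ^ 4 + 1) * (q ^ 8 - q ^ 4 + 1) := by
      have := cube_add (q ^ 4)
      rw [← pow_mul, ← pow_mul] at this
      exact this
    rw [e1, e2, ← hZ]; ring
  have c8 := H.cop_sub (d := 8) (by norm_num)
  have c4 : Nat.Coprime Z (q ^ 4 + 1) := by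
    have e : q ^ 8 - 1 = (q ^ 4 - 1) * (q ^ 4 + 1) := by rw [← sq_sub, ← pow_mul]
    rw [e] at c8
    exact c8.coprime_mul_left_right
  refine ⟨(q ^ 2 - 1) * (q ^ 8 - 1) * (q ^ 12 - 1) * (q ^ 14 - 1) * (q ^ 18 - 1) * (q ^ 20 - 1) * ((q ^ 12 - 1) * (q ^ 4 + 1)) *
      (q ^ 30 - 1), ?_, ?_, Nat.coprime_one_right _⟩
  · show (q ^ 2 - 1) * (q ^ 8 - 1) * (q ^ 12 - 1) * (q ^ 14 - 1) * (q ^ 18 - 1) * (q ^ 20 - 1) * (q ^ 24 - 1) *
      (q ^ 30 - 1) = _
    rw [h24]; ring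
  · refine Nat.Coprime.mul_right (Nat.Coprime.mul_right (Nat.Coprime.mul_right (Nat.Coprime.mul_right
      (Nat.Coprime.mul_right (Nat.Coprime.mul_right (Nat.Coprime.mul_right ?_ c8) ?_) ?_) ?_) ?_)
      (Nat.Coprime.mul_right ?_ c4)) ?_
    all_goals exact H.cop_sub (by norm_num)

theorem no_TF4_sq {p f N m : ℕ} (h : IsOrd .TF4 p f N) (hN : N = m ^ 2) : False := by
  refine h.zz (i := 1) hN (by norm_num) ?_
  intro Z hZ H
  rw [zz_one] at hZ
  generalize p ^ f = q at *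
  have c2 : Nat.Coprime Z (q ^ 2 + 1) := by
    have c4 := H.cop_sub (d := 4) (by norm_num)
    rw [four_sub] at c4
    exact c4.coprime_mul_left_right
  refine ⟨(q - 1) * (q ^ 3 + 1) * (q ^ 4 - 1) * (q ^ 2 + 1), ?_, ?_, Nat.coprime_one_right _⟩
  · show (q - 1) * (q ^ 3 + 1) * (q ^ 4 - 1) * (q ^ 6 + 1) = _
    rw [six_add, ← hZ]; ring
  · exact Nat.Coprime.mul_right (Nat.Coprime.mul_right (Nat.Coprime.mul_right (H.cop_sub_one (by norm_num))
      (H.cop_add (by norm_num))) (H.cop_sub (by norm_num))) c2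

theorem no_P_two_pow_sq {p f N m n s : ℕ} (h : IsOrd (.P n) p f N) (hN : N = m ^ 2) (hs : 3 ≤ s) (hn : n = 2 ^ s) : False := by
  subst hn
  obtain ⟨i, rfl⟩ : ∃ i, s = i + 2 := ⟨s - 2, by omega⟩
  refine h.zz (i := i) hN (by omega) ?_
  intro Z hZ H
  have hdd : (LT.P (2 ^ (i + 2))).dd (p ^ f) = Nat.gcd 4 ((p ^ f) ^ (2 ^ (i + 2)) - 1) := rfl
  have hcof : (LT.P (2 ^ (i + 2))).cof (p ^ f) = ((p ^ f) ^ (2 ^ (i + 2)) - 1) *
    ∏ k ∈ range (2 ^ (i + 2) - 1), ((p ^ f) ^ (2 * (k + 1)) - 1) := rfl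
  generalize p ^ f = q at *
  have hi2 : 2 ≤ 2 ^ i := by
    calc 2 = 2 ^ 1 := rfl
      _ ≤ 2 ^ i := Nat.pow_le_pow_right (by norm_num) (by omega)
  have h3 : ¬ 3 * 2 ^ (i + 1) ∣ 2 ^ (i + 2) := by
    intro hd
    have h4 : 3 ∣ 2 ^ (i + 2) := (Dvd.intro _ rfl).trans hd
    have := Nat.prime_three.dvd_of_dvd_pow h4
    omega
  have e2 : 2 ^ (i + 2) = 4 * 2 ^ i := by ring
  have e1 : 2 ^ (i + 1) = 2 * 2 ^ i := by ring
  have hsplit : ∃ W, ∏ k ∈ range (2 ^ (i + 2) - 1), (q ^ (2 * (k + 1)) - 1) = Z * W ∧ Nat.Coprime Z W := by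
    have hX : q ^ (3 * 2 ^ (i + 1)) - 1 = Z * (((q ^ 2 ^ i) ^ 3 - 1) * (q ^ 2 ^ i + 1)) := by
      have e3 : q ^ (3 * 2 ^ (i + 1)) = (q ^ 2 ^ i) ^ 6 := by rw [← pow_mul]; congr 1; ring
      have e4 : (q ^ 2 ^ i) ^ 6 - 1 = ((q ^ 2 ^ i) ^ 3 - 1) * ((q ^ 2 ^ i) ^ 3 + 1) := by
        rw [← sq_sub]; congr 1; ring
      rw [e3, e4, cube_add, ← hZ]; ring
    have hc1 : Nat.Coprime Z ((q ^ 2 ^ i) ^ 3 - 1) := by
      rw [← pow_mul]
      apply H.cop_sub
      intro hd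
      have := Nat.le_of_dvd (by positivity) hd
      omega
    have hc2 : Nat.Coprime Z (q ^ 2 ^ i + 1) := by
      apply H.cop_add
      left
      intro hd
      have := Nat.le_of_dvd (by positivity) hd
      omega
    refine prod_split (i0 := 3 * 2 ^ i - 1) (W0 := ((q ^ 2 ^ i) ^ 3 - 1) * (q ^ 2 ^ i + 1)) (by omega) ?_
      (Nat.Coprime.mul_right hc1 hc2) ?_
    · rw [← hX]; congr 2; omega
    · intro k hk hk0
      apply H.cop_sub
      rintro ⟨t, ht⟩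
      have : t ≤ 1 := by
        by_contra hcon
        have : 3 * 2 ^ (i + 1) * 2 ≤ 3 * 2 ^ (i + 1) * t := Nat.mul_le_mul_left _ (by omega)
        (clear * - e2 hk ht this; omega)
      interval_cases t <;> omega
  obtain ⟨W, hW, hcop⟩ := hsplit
  refine ⟨(q ^ (2 ^ (i + 2)) - 1) * W, ?_, Nat.Coprime.mul_right (H.cop_sub h3) hcop, ?_⟩
  · rw [hcof, hW]; ring
  · rw [hdd]; exact Nat.Coprime.coprime_dvd_right (Nat.gcd_dvd_left _ _) H.cop_four

end Cfsg.Agent.H437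
end

-- part: H437/PowMain
section
set_option autoImplicit false
namespace Cfsg.Agent.H437
open Finset

theorem two_le_log {n : ℕ} (h : 4 ≤ n) : 2 ≤ Nat.log 2 n :=
  Nat.le_log_of_pow_le (by norm_num) (by simpa using h)

theorem three_le_log {n : ℕ} (h : 8 ≤ n) : 3 ≤ Nat.log 2 n :=
  Nat.le_log_of_pow_le (by norm_num) (by simpa using h)

/-- the orders of the simple groups of Lie type are not perfect powers, apart from squares for `PSp₄(p)` -/
theorem IsOrd.pow_prime {T : LT} {p f N m l : ℕ} (h : IsOrd T p f N) (hl : l.Prime) (hN : N = m ^ l) :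
    l = 2 ∧ T = .C 2 ∧ f = 1 ∧ ∃ z, p ^ 2 + 1 = 2 * z ^ 2 := by
  by_cases hl2 : l = 2
  · subst hl2
    cases T with
    | A n =>
      exfalso
      have hn : 2 ≤ n := h.valid.1
      rcases (by omega : n = 2 ∨ n = 3 ∨ n = 4 ∨ n = 5 ∨ n = 6 ∨ n = 7 ∨ 8 ≤ n) with rfl | rfl | rfl | rfl | rfl | rfl | hn
      · exact no_A2 h hl hN
      · exact no_A3 h hl hN
      · exact no_A4_sq h hN
      · exact no_A5_sq h hN
      · exact h.fac_two hN (two_le_log (by norm_num)) (fac_A (by norm_num)) (.inr (.inr (by decide)))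
      · exact h.fac_two hN (two_le_log (by norm_num)) (fac_A (by norm_num)) (.inr (.inr (by decide)))
      · exact h.fac_two hN (two_le_log (by omega)) (fac_A (by omega)) (.inr (.inl (three_le_log hn)))
    | U n =>
      exfalso
      have hn : 3 ≤ n := h.valid.1
      rcases (by omega : n = 3 ∨ n = 4 ∨ n = 5 ∨ n = 6 ∨ n = 7 ∨ 8 ≤ n) with rfl | rfl | rfl | rfl | rfl | hn
      · exact no_U3 h hl hN
      · exact no_U4_sq h hN
      · exact no_U5_sq h hN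
      · exact h.fac_two hN (two_le_log (by norm_num)) (fac_U (by norm_num)) (.inr (.inr (by decide)))
      · exact h.fac_two hN (two_le_log (by norm_num)) (fac_U (by norm_num)) (.inr (.inr (by decide)))
      · exact h.fac_two hN (two_le_log (by omega)) (fac_U (by omega)) (.inr (.inl (three_le_log hn)))
    | C n =>
      have hn : 2 ≤ n := h.valid.1
      rcases (by omega : n = 2 ∨ n = 3 ∨ 4 ≤ n) with rfl | rfl | hn
      · have hF := fac_C (q := p ^ f) (m := 2) le_rfl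
        rw [show Nat.log 2 (2 * 2) = 2 by decide] at hF
        have hodd := h.odd_q hN le_rfl hF
        obtain ⟨c, z, hz, -, hc, -⟩ := h.fac_sq hN le_rfl hF
        rw [hc hodd, show 2 ^ (2 - 1) = 2 from rfl] at hz
        have hp2 : p ≠ 2 := by
          rintro rfl
          have := Nat.mod_eq_zero_of_dvd (dvd_pow_self 2 h.f_ne)
          omega
        have hf := pell_prime h.prime hp2 h.f_ne hz
        refine ⟨rfl, rfl, hf, z, ?_⟩
        rw [hf, pow_one] at hz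
        exact hz
      · exact (h.fac_two hN (two_le_log (by norm_num)) (fac_C (by norm_num)) (.inr (.inr (by decide)))).elim
      · exact (h.fac_two hN (two_le_log (by omega)) (fac_C (by omega)) (.inr (.inl (three_le_log (by omega))))).elim
    | P n =>
      exfalso
      have hn : 4 ≤ n := h.valid
      by_cases hpow : n = 2 ^ Nat.log 2 (2 * (n - 1))
      · by_cases h4 : n = 4
        · subst h4; exact no_P4_sq h hN
        · exact no_P_two_pow_sq h hN (three_le_log (by omega)) hpow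
      · refine h.fac_two hN (two_le_log (by omega)) (fac_P_one hn hpow) (.inr (.inl (three_le_log ?_)))
        by_contra hcon
        have : n = 4 := by omega
        subst this
        exact hpow (by decide)
    | M n =>
      exfalso
      have hn : 4 ≤ n := h.valid
      by_cases h4 : n = 4
      · subst h4; exact h.fac_two hN (by norm_num) fac_M4 (.inr (.inl le_rfl))
      · exact h.fac_two hN (two_le_log (by omega)) (fac_M hn) (.inr (.inl (three_le_log (by omega))))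
    | G2 => exact (no_G2 h hl hN).elim
    | F4 => exact (h.fac_two hN (by norm_num) fac_F4 (.inr (.inl le_rfl))).elim
    | E6 => exact (h.fac_two hN (by norm_num) fac_E6 (.inr (.inl le_rfl))).elim
    | E7 => exact (h.fac_two hN (by norm_num) fac_E7 (.inr (.inl le_rfl))).elim
    | E8 => exact (no_E8_sq h hN).elim
    | TE6 => exact (h.fac_two hN (by norm_num) fac_TE6 (.inr (.inl le_rfl))).elim
    | TD4 => exact (no_TD4 h hl hN).elim
    | Sz => exact (h.fac_two hN (by norm_num) fac_Sz (.inl h.valid.1)).elim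
    | Ree => exact (no_Ree h hl hN).elim
    | TF4 => exact (no_TF4_sq h hN).elim
  · exfalso
    cases T with
    | A n =>
      have hn : 2 ≤ n := h.valid.1
      rcases (by omega : n = 2 ∨ n = 3 ∨ 4 ≤ n) with rfl | rfl | hn
      · exact no_A2 h hl hN
      · exact no_A3 h hl hN
      · exact h.fac_odd hl hl2 hN (two_le_log hn) (.inl rfl) (fac_A hn)
    | U n =>
      have hn : 3 ≤ n := h.valid.1
      rcases (by omega : n = 3 ∨ 4 ≤ n) with rfl | hn
      · exact no_U3 h hl hN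
      · exact h.fac_odd hl hl2 hN (two_le_log hn) (.inl rfl) (fac_U hn)
    | C n =>
      have hn : 2 ≤ n := h.valid.1
      exact h.fac_odd hl hl2 hN (two_le_log (by omega)) (.inl rfl) (fac_C hn)
    | P n =>
      have hn : 4 ≤ n := h.valid
      by_cases hpow : n = 2 ^ Nat.log 2 (2 * (n - 1))
      · exact h.fac_odd hl hl2 hN (two_le_log (by omega)) (.inr rfl) (fac_P_two hn hpow)
      · exact h.fac_odd hl hl2 hN (two_le_log (by omega)) (.inl rfl) (fac_P_one hn hpow)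
    | M n =>
      have hn : 4 ≤ n := h.valid
      exact h.fac_odd hl hl2 hN (two_le_log (by omega)) (.inl rfl) (fac_M hn)
    | G2 => exact no_G2 h hl hN
    | F4 => exact h.fac_odd hl hl2 hN (by norm_num) (.inl rfl) fac_F4
    | E6 => exact h.fac_odd hl hl2 hN (by norm_num) (.inl rfl) fac_E6
    | E7 => exact h.fac_odd hl hl2 hN (by norm_num) (.inl rfl) fac_E7
    | E8 => exact h.fac_odd hl hl2 hN (by norm_num) (.inr rfl) fac_E8
    | TE6 => exact h.fac_odd hl hl2 hN (by norm_num) (.inl rfl) fac_TE6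
    | TD4 => exact no_TD4 h hl hN
    | Sz => exact h.fac_odd hl hl2 hN (by norm_num) (.inl rfl) fac_Sz
    | Ree => exact no_Ree h hl hN
    | TF4 => exact h.fac_odd hl hl2 hN (by norm_num) (.inr rfl) fac_TF4

theorem IsOrd.not_fourth {T : LT} {p f N m : ℕ} (h : IsOrd T p f N) (hN : N = m ^ 4) : False := by
  obtain ⟨-, hT, hf, z, hz⟩ := h.pow_prime (m := m ^ 2) Nat.prime_two (by rw [hN, ← pow_mul])
  subst hT hf
  have heq := h.eq
  have hp2 : p % 2 = 1 := by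
    rcases h.prime.eq_two_or_odd with h2 | h2
    · subst h2; omega
    · exact h2
  have h3 : 3 ≤ p := by have := h.prime.two_le; omega
  have e1 : (LT.C 2).cof (p ^ 1) = (p ^ 2 - 1) * (p ^ 4 - 1) := by
    simp only [LT.cof, Finset.prod_range_succ, _root_.pow_one, _root_.Finset.range_one, _root_.Finset.prod_singleton, _root_.zero_add, _root_.mul_one, _root_.Nat.reduceAdd, _root_.Nat.reduceMul]
  rw [e1, show (LT.C 2).expo = 4 from rfl, show (LT.C 2).dd (p ^ 1) = Nat.gcd 2 (p ^ 1 - 1) from rfl, hN, pow_one,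
    show Nat.gcd 2 (p - 1) = 2 from Nat.gcd_eq_left (by omega), four_sub, hz] at heq
  have hz0 : 0 < z := by
    rcases Nat.eq_zero_or_pos z with h0 | h0
    · rw [h0] at hz; omega
    · exact h0
  have h9 : 9 ≤ p ^ 2 := by nlinarith only [h3]
  have hK : 0 < p ^ 2 - 1 := by omega
  have h5 : m ^ 4 = (p ^ 2 * (p ^ 2 - 1) * z) ^ 2 := by
    have : 2 * m ^ 4 = 2 * (p ^ 2 * (p ^ 2 - 1) * z) ^ 2 := by rw [heq]; ring
    omega
  have h6 : m ^ 2 = p ^ 2 * (p ^ 2 - 1) * z := by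
    rw [show m ^ 4 = (m ^ 2) ^ 2 by rw [← pow_mul]] at h5
    exact Nat.pow_left_injective (by norm_num : 2 ≠ 0) h5
  have h7 : m ^ 2 = p ^ 2 * ((p ^ 2 - 1) * z) := by rw [h6]; ring
  obtain ⟨y, hy⟩ := pow_of_mul_pow (by norm_num) h.prime.pos h7
  -- z is odd and prime to p^2-1
  have hcop : Nat.Coprime (p ^ 2 - 1) z := by
    rw [Nat.coprime_iff_gcd_eq_one]
    by_contra hg
    obtain ⟨r, hr, hrg⟩ := Nat.exists_prime_and_dvd hg
    have h8 : r ∣ p ^ 2 - 1 := hrg.trans (Nat.gcd_dvd_left _ _)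
    have h9 : r ∣ z := hrg.trans (Nat.gcd_dvd_right _ _)
    have h10 : r ∣ z ^ 2 := dvd_pow h9 (by norm_num)
    have h11 : p ^ 2 + 1 = (p ^ 2 - 1) + 2 := by (clear * - hz; omega)
    have h12 : r ∣ 2 := by
      have : r ∣ (p ^ 2 - 1) + 2 := by rw [← h11, hz]; exact Dvd.dvd.mul_left h10 2
      exact (Nat.dvd_add_right h8).1 this
    rw [Nat.prime_dvd_prime_iff_eq hr Nat.prime_two] at h12
    subst h12
    obtain ⟨k, rfl⟩ := h9
    obtain ⟨a, ha⟩ : ∃ a, p = 2 * a + 1 := ⟨p / 2, by omega⟩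
    rw [ha] at hz
    ring_nf at hz
    omega
  obtain ⟨u, hu⟩ := pow_of_mul hcop hy
  have hu0 : 1 ≤ u := by
    rcases Nat.eq_zero_or_pos u with h0 | h0
    · rw [h0] at hu; omega
    · exact h0
  exact not_consecutive_squares hu0 (show u ^ 2 + 1 = p ^ 2 by omega)

/-! ### alternating groups -/

theorem fact_not_pow {n N m k : ℕ} (hn : 5 ≤ n) (hk : 2 ≤ k) (h : 2 * N = n.factorial) : N ≠ m ^ k := by
  obtain ⟨r, hr, h1, h2⟩ := Nat.exists_prime_lt_and_le_two_mul (n / 2) (by omega)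
  have hr3 : 3 ≤ r := by omega
  have hrn : r ∣ n.factorial := (Nat.Prime.dvd_factorial hr).2 (by omega)
  have hr2 : ¬ r ^ 2 ∣ n.factorial := by
    have hF := Fact.mk hr
    intro h3
    have h4 := (padicValNat_dvd_iff_le (p := r) (Nat.factorial_ne_zero n)).1 h3
    have h5 : n < r ^ 2 := by
      have : 3 * r ≤ r * r := Nat.mul_le_mul_right r hr3
      rw [pow_two]
      omega
    rw [padicValNat_factorial (b := 2) (Nat.log_lt_of_lt_pow (by omega) h5)] at h4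
    simp at h4
    have h6 : n / r ≤ 1 := by
      rw [Nat.div_le_iff_le_mul_add_pred (by omega)]
      omega
    omega
  apply not_pow_of_prime hr ?_ ?_ hk
  · rw [← h] at hrn
    exact ((Nat.coprime_primes hr Nat.prime_two).2 (by omega)).dvd_of_dvd_mul_left hrn
  · intro h3
    exact hr2 (by rw [← h]; exact Dvd.dvd.mul_left h3 2)

theorem prime_not_pow {N m k : ℕ} (h1 : N.Prime) (hk : 2 ≤ k) : N ≠ m ^ k :=
  not_pow_of_prime h1 dvd_rfl (fun h2 => by
    have := Nat.le_of_dvd h1.pos h2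
    have h3 := h1.two_le
    nlinarith) hk

/-- the order of a simple group of Lie type is not a `k`-th power for `k ≥ 3` -/
theorem IsOrd.not_pow {T : LT} {p f N m k : ℕ} (h : IsOrd T p f N) (hk : 3 ≤ k) : N ≠ m ^ k := by
  intro hN
  rcases Nat.eq_two_pow_or_exists_odd_prime_and_dvd k with ⟨a, ha⟩ | ⟨l, hl, hlk, hodd⟩
  · have ha2 : 2 ≤ a := by
      by_contra hcon
      have : 2 ^ a ≤ 2 ^ 1 := Nat.pow_le_pow_right (by norm_num) (by omega)
      omega
    obtain ⟨b, rfl⟩ := Nat.exists_eq_add_of_le ha2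
    refine h.not_fourth (m := m ^ 2 ^ b) ?_
    rw [hN, ha, ← pow_mul, pow_add]
    congr 1
    ring
  · obtain ⟨b, rfl⟩ := hlk
    have := (h.pow_prime (m := m ^ b) hl (by rw [hN, ← pow_mul, mul_comm])).1
    rw [this] at hodd
    exact absurd hodd (by decide)

/-- the order of `PSp₄(p)` is a square if `p ^ 2 + 1` is twice a square -/
theorem sq_of_pell {N p y : ℕ} (hp : p.Prime) (hy : p ^ 2 + 1 = 2 * y ^ 2)
    (h1 : (LT.C 2).dd p * N = p ^ (LT.C 2).expo * (LT.C 2).cof p) : ∃ m, N = m ^ 2 := by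
  have e1 : (LT.C 2).cof p = (p ^ 2 - 1) * (p ^ 4 - 1) := by
    simp only [LT.cof, Finset.prod_range_succ, _root_.Finset.range_one, _root_.Finset.prod_singleton, _root_.zero_add, _root_.mul_one, _root_.Nat.reduceAdd, _root_.Nat.reduceMul]
  have hp2 : p % 2 = 1 := by
    rcases hp.eq_two_or_odd with h2 | h2
    · subst h2; omega
    · exact h2
  rw [e1, show (LT.C 2).expo = 4 from rfl, show (LT.C 2).dd p = Nat.gcd 2 (p - 1) from rfl,
    show Nat.gcd 2 (p - 1) = 2 from Nat.gcd_eq_left (by omega), four_sub, hy] at h1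
  refine ⟨p ^ 2 * (p ^ 2 - 1) * y, ?_⟩
  have : 2 * N = 2 * (p ^ 2 * (p ^ 2 - 1) * y) ^ 2 := by rw [h1]; ring
  omega

end Cfsg.Agent.H437
end
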